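import Mathlib.RingTheory.Ideal.Quotient.Basic
import Mathlib.RingTheory.Ideal.Maps
import Mathlib.Algebra.Polynomial.Eval.Degree
import Mathlib.Algebra.Polynomial.Coeff

/-!
# Maps of rings with a coaction of the multiplicative line
-/

set_option autoImplicit false

universe u

open Polynomial

namespace Groth.Agent.BBIso

variable {A B : Type u} [CommRing A] [CommRing B]

/-- A coaction of the multiplicative line. -/
structure IsCoact (Δ : A →+* A[X]) : Prop where
  counit : ∀ a, (Δ a).eval 1 = a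
  coassoc : ∀ a n, Δ ((Δ a).coeff n) = C ((Δ a).coeff n) * X ^ n

/-- The projection to degree zero. -/
noncomputable def e0 (Δ : A →+* A[X]) : A →+* A := Polynomial.constantCoeff.comp Δ

theorem e0_apply (Δ : A →+* A[X]) (a : A) : e0 Δ a = (Δ a).coeff 0 := rfl

theorem e0_idem {Δ : A →+* A[X]} (h : IsCoact Δ) (a : A) : e0 Δ (e0 Δ a) = e0 Δ a := by
  rw [e0_apply, e0_apply, h.coassoc, coeff_C_mul_X_pow, if_pos rfl]

theorem sub_e0_mem {Δ : A →+* A[X]} (h : IsCoact Δ) (a : A) : a - e0 Δ a ∈ RingHom.ker (e0 Δ) := by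
  rw [RingHom.mem_ker, map_sub, e0_idem h, sub_self]

theorem Δ_e0 {Δ : A →+* A[X]} (h : IsCoact Δ) (a : A) : Δ (e0 Δ a) = C (e0 Δ a) := by
  rw [e0_apply, h.coassoc, pow_zero, mul_one]

variable {ΔA : A →+* A[X]} {ΔB : B →+* B[X]} (φ : B →+* A)

theorem surjective_of (hA : IsCoact ΔA) (hB : IsCoact ΔB) (hφ : ∀ b, ΔA (φ b) = (ΔB b).map φ)
    (hcart : RingHom.ker (e0 ΔA) ≤ (RingHom.ker (e0 ΔB)).map φ)
    (hsurj : ∀ a, ∃ b, e0 ΔA (φ b - a) = 0) : Function.Surjective φ := by
  have key : ∀ n, ∀ a, (ΔA a).coeff n ∈ φ.range := by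
    intro n
    induction n using Nat.strong_induction_on with
    | _ n ih =>
      intro a
      rcases Nat.eq_zero_or_pos n with rfl | hn
      · obtain ⟨b, hb⟩ := hsurj a
        refine ⟨(ΔB b).coeff 0, ?_⟩
        rw [map_sub, sub_eq_zero, e0_apply, e0_apply, hφ, coeff_map] at hb
        exact hb
      · let a' := (ΔA a).coeff n
        have ha : a' ∈ (RingHom.ker (e0 ΔB)).map φ := hcart (by
          rw [RingHom.mem_ker, e0_apply, hA.coassoc, coeff_C_mul_X_pow, if_neg hn.ne])
        have main : ∀ x ∈ (RingHom.ker (e0 ΔB)).map φ, ∀ c, (ΔA (c * x)).coeff n ∈ φ.range := by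
          intro x hx
          refine Submodule.span_induction ?_ ?_ ?_ ?_ hx
          · rintro _ ⟨b, hb, rfl⟩ c
            rw [map_mul, hφ, coeff_mul]
            refine Subring.sum_mem _ fun p hp => ?_
            rw [coeff_map]
            rcases Nat.eq_zero_or_pos p.2 with h0 | h0
            · have : (ΔB b).coeff 0 = 0 := hb
              rw [h0, this, map_zero, mul_zero]
              exact φ.range.zero_mem
            · have hlt : p.1 < n := by
                have := Finset.mem_antidiagonal.1 hp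
                omega
              exact φ.range.mul_mem (ih _ hlt c) ⟨_, rfl⟩
          · intro c
            rw [mul_zero, map_zero, coeff_zero]
            exact φ.range.zero_mem
          · intro x y _ _ hx hy c
            rw [mul_add, map_add, coeff_add]
            exact φ.range.add_mem (hx c) (hy c)
          · intro r x _ hx c
            rw [smul_eq_mul, ← mul_assoc]
            exact hx (c * r)
        have := main a' ha 1
        rwa [one_mul, hA.coassoc, coeff_C_mul_X_pow, if_pos rfl] at this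
  intro a
  rw [← RingHom.mem_range, ← hA.counit a, eval_eq_sum]
  refine Subring.sum_mem _ fun n _ => ?_
  simp only [one_pow, mul_one]
  exact key n a

theorem injective_of (hB : IsCoact ΔB) (hφ : ∀ b, ΔA (φ b) = (ΔB b).map φ)
    (hflat : ∀ P : Ideal B, P.IsPrime → RingHom.ker (e0 ΔB) ≤ P → ∀ b, φ b = 0 → ∃ s ∉ P, s * b = 0) :
    Function.Injective φ := by
  rw [injective_iff_map_eq_zero]
  intro b hb
  rw [← hB.counit b, eval_eq_sum]
  refine Finset.sum_eq_zero fun n _ => ?_
  simp only [one_pow, mul_one]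
  let c := (ΔB b).coeff n
  show c = 0
  have hc : φ c = 0 := by
    show φ ((ΔB b).coeff n) = 0
    rw [← coeff_map, ← hφ, hb, map_zero, coeff_zero]
  let L : Ideal B := Ideal.comap (e0 ΔB) (Ideal.span {c}).annihilator
  have hmem : ∀ s, s ∈ L ↔ e0 ΔB s * c = 0 := fun s => by
    show e0 ΔB s ∈ (Submodule.span B {c}).annihilator ↔ _
    rw [Submodule.mem_annihilator_span_singleton, smul_eq_mul]
  by_cases hL : L = ⊤
  · have := (hmem 1).1 (hL ▸ trivial)
    rwa [map_one, one_mul] at this
  exfalso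
  obtain ⟨P, hP, hLP⟩ := L.exists_le_maximal hL
  obtain ⟨s, hs, hsc⟩ := hflat P hP.isPrime (le_trans (fun x hx => (hmem x).2 (by
    rw [RingHom.mem_ker.1 hx, zero_mul])) hLP) c hc
  refine hs (hLP ((hmem s).2 ?_))
  have h := congrArg (fun p => p.coeff n) (congrArg ΔB hsc)
  simp only [map_mul, map_zero, coeff_zero] at h
  rw [show ΔB c = C c * X ^ n from hB.coassoc b n, ← mul_assoc, mul_comm _ (C c), mul_assoc, coeff_C_mul,
    coeff_mul_X_pow', if_pos le_rfl, Nat.sub_self] at h
  rw [e0_apply, mul_comm]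
  exact h

theorem bijective_of (hA : IsCoact ΔA) (hB : IsCoact ΔB) (hφ : ∀ b, ΔA (φ b) = (ΔB b).map φ)
    (hcart : RingHom.ker (e0 ΔA) ≤ (RingHom.ker (e0 ΔB)).map φ)
    (hsurj : ∀ a, ∃ b, e0 ΔA (φ b - a) = 0)
    (hflat : ∀ P : Ideal B, P.IsPrime → RingHom.ker (e0 ΔB) ≤ P → ∀ b, φ b = 0 → ∃ s ∉ P, s * b = 0) :
    Function.Bijective φ :=
  ⟨injective_of φ hB hφ hflat, surjective_of φ hA hB hφ hcart hsurj⟩

end Groth.Agent.BBIso
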