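import Groth.Agent.MagnetFormal.Ext
import Groth.Agent.BBIso.Alg
import Groth.Prelude.Def_Magnet3

/-!
# Actions of the multiplicative affine line: affine stable charts, the retraction, orbit closures
-/

set_option autoImplicit false
set_option backward.isDefEq.respectTransparency false
set_option linter.style.haveILetI false

universe u

open CategoryTheory CategoryTheory.Limits MonoidalCategory CartesianMonoidalCategory MonObj AlgebraicGeometry Opposite
open Groth.Agent.LineGrp (specA mapA)
open Groth.Agent.MagnetFormal (val point val_point val_mul ext_val co_natural mapA_comp specA_lift)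

noncomputable section

namespace Groth.Agent.BBIso

variable {k : Type u} [CommRing k]

/-- The multiplicative affine line. -/
abbrev M (k : Type u) [CommRing k] : Over (Spec (CommRingCat.of k)) := Magnet.AMonS (Spec (CommRingCat.of k)) ℕ

variable {A C : Type u} [CommRing A] [Algebra k A] [CommRing C] [Algebra k C]

/-- The point with given coordinate. -/
def coordN (c : A) : specA k A ⟶ M k :=
  point
    { toFun := fun n => c ^ n.toAdd
      map_one' := by simp
      map_mul' := fun m n => by rw [toAdd_mul, pow_add] }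

theorem val_coordN (c : A) : val (coordN (k := k) c) 1 = c := by
  rw [coordN, val_point]
  simp

theorem gen_ext {x y : specA k A ⟶ M k} (h : val x 1 = val y 1) : x = y := by
  refine ext_val fun n => ?_
  have : ∀ z : specA k A ⟶ M k, val z n = val z 1 ^ n := by
    intro z
    rw [val, val, ← map_pow, MonoidAlgebra.single_pow, one_pow, ← ofAdd_nsmul, nsmul_one, Nat.cast_id]
  rw [this, this, h]

theorem mapA_coordN (f : A →ₐ[k] C) (c : A) : mapA f ≫ coordN c = coordN (f c) := by
  apply gen_ext
  rw [co_natural, val_coordN, val_coordN]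

theorem coordN_mul (s t : A) : coordN (k := k) s * coordN t = coordN (s * t) := by
  apply gen_ext
  rw [val_mul, val_coordN, val_coordN, val_coordN]

theorem coordN_one : coordN (k := k) (1 : A) = toUnit _ ≫ η[M k] := by
  have h : coordN (k := k) (1 : A) * (toUnit _ ≫ η[M k]) = coordN 1 := by
    rw [Hom.mul_def]
    exact MonObj.lift_comp_one_right _ _
  have h' := congrArg (fun z => val z (1 : ℕ)) h
  simp only [val_mul, val_coordN, _root_.one_mul] at h'
  apply gen_ext
  rw [h', val_coordN]

variable (k) in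
/-- The unit object as a spectrum. -/
def u0 : 𝟙_ (Over (Spec (CommRingCat.of k))) ⟶ specA k k :=
  Over.homMk (𝟙 _) (by
    show 𝟙 _ ≫ Spec.map (CommRingCat.ofHom (algebraMap k k)) = 𝟙 _
    rw [Algebra.algebraMap_self, Category.id_comp]
    exact Spec.map_id _)

/-- The zero point. -/
def zeroM (T : Over (Spec (CommRingCat.of k))) : T ⟶ M k := toUnit T ≫ u0 k ≫ coordN 0

theorem comp_zeroM {T T' : Over (Spec (CommRingCat.of k))} (t : T' ⟶ T) : t ≫ zeroM T = zeroM T' := by
  rw [zeroM, ← Category.assoc, comp_toUnit]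
  rfl

theorem zeroM_specA : zeroM (specA k A) = coordN (0 : A) := by
  rw [zeroM, ← map_zero (Algebra.ofId k A), ← mapA_coordN, ← Category.assoc]
  congr 1

theorem hom_ext_specA {T Z : Over (Spec (CommRingCat.of k))} {g h : T ⟶ Z}
    (H : ∀ (A : Type u) [CommRing A] [Algebra k A] (q : specA k A ⟶ T), q ≫ g = q ≫ h) : g = h := by
  ext : 1
  refine T.left.affineCover.hom_ext _ _ fun i => ?_
  obtain ⟨s, hs⟩ := Spec.map_surjective (T.left.affineCover.f i ≫ T.hom)
  letI : Algebra k ((T.left.affineOpenCover.X i : CommRingCat) : Type u) := s.hom.toAlgebra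
  exact congrArg CommaMorphism.left (H _ (Over.homMk (U := specA k (T.left.affineOpenCover.X i)) (T.left.affineCover.f i) (by
    show _ = Spec.map (CommRingCat.ofHom s.hom)
    rw [CommRingCat.ofHom_hom, hs])))

theorem mul_zeroM {T : Over (Spec (CommRingCat.of k))} (g : T ⟶ M k) : g * zeroM T = zeroM T :=
  hom_ext_specA fun A _ _ q => by
    rw [MonObj.comp_mul, comp_zeroM, zeroM_specA]
    apply gen_ext
    rw [val_mul, val_coordN, mul_zero]

variable {X Y : Over (Spec (CommRingCat.of k))} (a : Magnet.MonAct (M k) X) (b : Magnet.MonAct (M k) Y)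

/-- The action on affine points. -/
def act (c : A) (x : specA k A ⟶ X) : specA k A ⟶ X := lift (coordN c) x ≫ a.act

theorem mapA_act (f : A →ₐ[k] C) (c : A) (x : specA k A ⟶ X) :
    mapA f ≫ act a c x = act a (f c) (mapA f ≫ x) := by
  rw [act, act, comp_lift_assoc, mapA_coordN]

theorem act_one (x : specA k A ⟶ X) : act a 1 x = x := by
  rw [act, coordN_one, ← lift_whiskerRight_assoc, a.one_act, leftUnitor_hom, lift_snd]

theorem act_act (s t : A) (x : specA k A ⟶ X) : act a s (act a t x) = act a (s * t) x := by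
  rw [act, act, act, ← a.lift_mul_act, coordN_mul]

theorem act_comp {f : X ⟶ Y} (hf : Magnet.MonAct.IsEquivariant a b f) (c : A) (x : specA k A ⟶ X) :
    act a c x ≫ f = act b c (x ≫ f) := by
  rw [act, act, Category.assoc]
  exact (Magnet.MonAct.isEquivariant_iff a b f).1 hf _ _ _

/-- Multiplication by zero. -/
def e : X ⟶ X := lift (zeroM X) (𝟙 X) ≫ a.act

theorem comp_e {T : Over (Spec (CommRingCat.of k))} (x : T ⟶ X) : x ≫ e a = lift (zeroM T) x ≫ a.act := by
  rw [e, comp_lift_assoc, comp_zeroM, Category.comp_id]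

theorem comp_e_specA (x : specA k A ⟶ X) : x ≫ e a = act a 0 x := by
  rw [comp_e, zeroM_specA, act]

theorem e_e : e a ≫ e a = e a := by
  rw [comp_e, e, ← a.lift_mul_act, mul_zeroM]

theorem e_comp {f : X ⟶ Y} (hf : Magnet.MonAct.IsEquivariant a b f) : e a ≫ f = f ≫ e b := by
  rw [comp_e, e, Category.assoc, (Magnet.MonAct.isEquivariant_iff a b f).1 hf, Category.id_comp]

/-- The fixed point attached to a point killed by the retraction. -/
def fixPt {T : Over (Spec (CommRingCat.of k))} (x : T ⟶ X) (h : x ≫ e a = x) :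
    (Magnet.MonAct.fixedPsh a).obj (op T) :=
  ⟨x, fun T' t g => by
    have ht : lift (zeroM T') (t ≫ x) ≫ a.act = t ≫ x := by
      rw [← comp_e, Category.assoc, h]
    calc lift g (t ≫ x) ≫ a.act = lift g (lift (zeroM T') (t ≫ x) ≫ a.act) ≫ a.act := by rw [ht]
      _ = lift (zeroM T') (t ≫ x) ≫ a.act := by rw [← a.lift_mul_act, mul_zeroM]
      _ = t ≫ x := ht⟩

theorem e_of_fixed {T : Over (Spec (CommRingCat.of k))} (x : (Magnet.MonAct.fixedPsh a).obj (op T)) :
    x.1 ≫ e a = x.1 := by
  have := x.2 T (𝟙 T) (zeroM T)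
  rw [Category.id_comp] at this
  rw [comp_e]
  exact this

/-- A set stable under the action on affine points. -/
def Stable (O : Set X.left) : Prop :=
  ∀ (C : Type u) [CommRing C] [Algebra k C] (c : C) (x : specA k C ⟶ X),
    Set.range x.left ⊆ O → Set.range (act a c x).left ⊆ O

theorem stable_of_le (U : X.left.Opens)
    (hU : (CartesianMonoidalCategory.snd (M k) X).left ⁻¹ᵁ U ≤ a.act.left ⁻¹ᵁ U) : Stable a (U : Set X.left) := by
  intro C _ _ c x hx
  rintro _ ⟨p, rfl⟩
  refine hU (x := (lift (coordN c) x).left p) ?_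
  show (snd (M k) X).left ((lift (coordN c) x).left p) ∈ U
  rw [← Scheme.Hom.comp_apply, ← Over.comp_left, lift_snd]
  exact hx ⟨p, rfl⟩

theorem stable_inter {O O' : Set X.left} (h : Stable a O) (h' : Stable a O') : Stable a (O ∩ O') :=
  fun C _ _ c x hx => Set.subset_inter (h C c x (hx.trans Set.inter_subset_left))
    (h' C c x (hx.trans Set.inter_subset_right))

theorem stable_preimage {f : X ⟶ Y} (hf : Magnet.MonAct.IsEquivariant a b f) {O : Set Y.left}
    (h : Stable b O) : Stable a (f.left ⁻¹' O) := by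
  intro C _ _ c x hx
  rintro _ ⟨p, rfl⟩
  show f.left _ ∈ O
  rw [← Scheme.Hom.comp_apply, ← Over.comp_left, act_comp a b hf]
  refine h C c (x ≫ f) ?_ ⟨p, rfl⟩
  rintro _ ⟨q, rfl⟩
  exact hx ⟨q, rfl⟩

theorem exists_pt (x : X.left) :
    ∃ (K : Type u) (_ : Field K) (_ : Algebra k K) (ξ : specA k K ⟶ X), Set.range ξ.left = {x} := by
  obtain ⟨s, hs⟩ := Spec.map_surjective (X.left.fromSpecResidueField x ≫ X.hom)
  letI : Algebra k (X.left.residueField x) := s.hom.toAlgebra
  refine ⟨X.left.residueField x, inferInstance, inferInstance,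
    Over.homMk (U := specA k (X.left.residueField x)) (X.left.fromSpecResidueField x) ?_, ?_⟩
  · show _ = Spec.map (CommRingCat.ofHom s.hom)
    rw [CommRingCat.ofHom_hom, hs]
  · exact Scheme.range_fromSpecResidueField x

/-- A stable open containing the limit of an orbit contains the orbit. -/
theorem mem_of_e_mem (O : X.left.Opens) (hO : Stable a (O : Set X.left)) {x : X.left} (hx : (e a).left x ∈ O) :
    x ∈ O := by
  obtain ⟨K, _, _, ξ, hξ⟩ := exists_pt x
  let cC : K →ₐ[k] Polynomial K := IsScalarTower.toAlgHom k K (Polynomial K)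
  let ev : Polynomial K →ₐ[k] K := (Polynomial.aeval (R := K) (0 : K)).restrictScalars k
  let γ := act a Polynomial.X (mapA cC ≫ ξ)
  let p0 := (mapA ev).left ⟨⊥, Ideal.isPrime_bot⟩
  have h0 : γ.left p0 ∈ O := by
    show γ.left ((mapA ev).left _) ∈ O
    rw [← Scheme.Hom.comp_apply, ← Over.comp_left]
    have : mapA ev ≫ γ = ξ ≫ e a := by
      rw [mapA_act, comp_e_specA, ← Category.assoc, mapA_comp]
      have e1 : ev.comp cC = AlgHom.id k K := by
        ext r
        simp [ev, cC]
      have e2 : ev Polynomial.X = 0 := by simp [ev]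
      rw [e1, e2]
      congr 1
      convert Category.id_comp ξ
      ext : 1
      exact Spec.map_id _
    rw [this, Over.comp_left, Scheme.Hom.comp_apply]
    convert hx
    exact hξ.subset ⟨_, rfl⟩
  let ηp : ↥(Spec (CommRingCat.of (Polynomial K))) := ⟨⊥, Ideal.isPrime_bot⟩
  have hη : γ.left ηp ∈ O :=
    (((PrimeSpectrum.le_iff_specializes ηp p0).1 bot_le).map γ.left.continuous).mem_open O.2 h0
  let F := FractionRing (Polynomial K)
  let loc : Polynomial K →ₐ[k] F := IsScalarTower.toAlgHom k (Polynomial K) F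
  have hτ : loc Polynomial.X ≠ 0 := fun h =>
    Polynomial.X_ne_zero (IsFractionRing.injective (Polynomial K) F (h.trans (map_zero _).symm))
  have h1 : Set.range (mapA loc ≫ γ).left ⊆ (O : Set X.left) := by
    rintro _ ⟨q, rfl⟩
    rw [Over.comp_left, Scheme.Hom.comp_apply]
    suffices e : (mapA loc).left q = ηp by rw [e]; exact hη
    apply PrimeSpectrum.ext
    show Ideal.comap loc.toRingHom q.asIdeal = ⊥
    rcases Ideal.eq_bot_or_top q.asIdeal with h | h
    · rw [h]
      exact Ideal.comap_bot_of_injective _ (IsFractionRing.injective (Polynomial K) F)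
    · exact absurd h q.2.ne_top
  have h2 := hO F (loc Polynomial.X)⁻¹ _ h1
  rw [mapA_act, act_act, inv_mul_cancel₀ hτ, act_one] at h2
  obtain ⟨q⟩ := (inferInstance : Nonempty ↥(Spec (CommRingCat.of F)))
  have h3 : (mapA loc ≫ mapA cC ≫ ξ).left q ∈ ({x} : Set X.left) := by
    rw [← hξ, Over.comp_left, Over.comp_left]
    exact ⟨_, rfl⟩
  rw [← Set.mem_singleton_iff.1 h3]
  exact h2 ⟨q, rfl⟩

end Groth.Agent.BBIso
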