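import Groth.Agent.BBIso.Act
import Mathlib.RingTheory.Flat.Basic
import Mathlib.RingTheory.Flat.Equalizer
import Mathlib.LinearAlgebra.TensorProduct.RightExactness
import Mathlib.AlgebraicGeometry.Morphisms.Flat

/-!
# Affine stable charts
-/

set_option autoImplicit false
set_option backward.isDefEq.respectTransparency false
set_option linter.style.haveILetI false

universe u

open CategoryTheory CategoryTheory.Limits MonoidalCategory CartesianMonoidalCategory MonObj AlgebraicGeometry Opposite TensorProduct
open Groth.Agent.LineGrp (specA mapA)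
open Groth.Agent.MagnetFormal (mapA_comp)

noncomputable section

namespace Groth.Agent.BBIso

theorem exists_notMem_mul_eq_zero {A B : Type u} [CommRing A] [CommRing B] (m : B →+* A) (hm : m.Flat)
    (Q : Ideal A) [Q.IsPrime] (b : B) (hb : m b = 0) : ∃ s ∉ Q.comap m, s * b = 0 := by
  algebraize [m]
  by_contra hne
  push Not at hne
  let μb : B →ₗ[B] B := LinearMap.mulRight B b
  let L := LinearMap.ker μb
  have hLP : L ≤ Q.comap m := fun s hs => by
    by_contra h
    exact hne s h hs
  have hex : Function.Exact (L.subtype.lTensor A) (μb.lTensor A) :=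
    Module.Flat.lTensor_exact A (LinearMap.exact_subtype_ker_map μb)
  have h1 : μb.lTensor A ((1 : A) ⊗ₜ[B] (1 : B)) = 0 := by
    rw [LinearMap.lTensor_tmul, show μb 1 = b • (1 : B) from by simp [μb], ← TensorProduct.smul_tmul,
      Algebra.smul_def, RingHom.algebraMap_toAlgebra, hb, zero_mul, TensorProduct.zero_tmul]
  obtain ⟨t, ht⟩ := (hex _).1 h1
  have h2 : ∀ t : A ⊗[B] L, TensorProduct.rid B A (L.subtype.lTensor A t) ∈ Q := by
    intro t
    induction t using TensorProduct.induction_on with
    | zero => simp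
    | tmul x l =>
      rw [LinearMap.lTensor_tmul, TensorProduct.rid_tmul, Algebra.smul_def, RingHom.algebraMap_toAlgebra]
      exact Q.mul_mem_right _ (hLP l.2)
    | add x y hx hy => rw [map_add, map_add]; exact Q.add_mem hx hy
  have h3 := h2 t
  rw [ht, TensorProduct.rid_tmul, one_smul] at h3
  exact Ideal.IsPrime.one_notMem inferInstance h3

variable {k : Type u} [CommRing k] {A B C : Type u} [CommRing A] [Algebra k A] [CommRing B] [Algebra k B]
  [CommRing C] [Algebra k C]

/-- The inclusion of constants. -/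
abbrev cC (A : Type u) [CommRing A] [Algebra k A] : A →ₐ[k] Polynomial A :=
  IsScalarTower.toAlgHom k A (Polynomial A)

/-- Evaluation. -/
def evalC (ψ : A →ₐ[k] C) (c : C) : Polynomial A →ₐ[k] C where
  toRingHom := Polynomial.eval₂RingHom ψ.toRingHom c
  commutes' r := by
    show Polynomial.eval₂ ψ.toRingHom c (algebraMap k (Polynomial A) r) = _
    rw [Polynomial.algebraMap_apply, Polynomial.eval₂_C]
    exact ψ.commutes r

theorem evalC_apply (ψ : A →ₐ[k] C) (c : C) (p : Polynomial A) :
    evalC ψ c p = Polynomial.eval₂ ψ.toRingHom c p := rfl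

theorem evalC_cC (ψ : A →ₐ[k] C) (c : C) : (evalC ψ c).comp (cC A) = ψ := AlgHom.ext fun r => by
  show Polynomial.eval₂ ψ.toRingHom c (Polynomial.C r) = _
  rw [Polynomial.eval₂_C]
  rfl

theorem evalC_X (ψ : A →ₐ[k] C) (c : C) : evalC ψ c Polynomial.X = c := Polynomial.eval₂_X _ _

variable {X Y : Over (Spec (CommRingCat.of k))} (a : Magnet.MonAct (M k) X) (b : Magnet.MonAct (M k) Y)

/-- A stable affine open chart. -/
def IsChart (j : specA k A ⟶ X) : Prop := IsOpenImmersion j.left ∧ Stable a (Set.range j.left)

variable {j : specA k A ⟶ X} {a}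

theorem mapA_injective {j : specA k A ⟶ X} [IsOpenImmersion j.left] {ψ ψ' : A →ₐ[k] C}
    (h : mapA ψ ≫ j = mapA ψ' ≫ j) : ψ = ψ' := by
  have h1 : (mapA ψ).left ≫ j.left = (mapA ψ').left ≫ j.left := congrArg CommaMorphism.left h
  exact AlgHom.ext fun r => RingHom.congr_fun
    (congrArg CommRingCat.Hom.hom (Spec.map_injective ((cancel_mono j.left).1 h1))) r

theorem exists_lift_chart (j : specA k A ⟶ X) [IsOpenImmersion j.left] (x : specA k C ⟶ X)
    (hx : Set.range x.left ⊆ Set.range j.left) : ∃ ψ : A →ₐ[k] C, mapA ψ ≫ j = x := by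
  let q : Spec (CommRingCat.of C) ⟶ X.left := x.left
  let r : Spec (CommRingCat.of C) ⟶ Spec (CommRingCat.of A) := IsOpenImmersion.lift j.left q hx
  have hr : r ≫ j.left = q := IsOpenImmersion.lift_fac _ _ _
  obtain ⟨β, hβ⟩ := Spec.map_surjective r
  have hcomm : CommRingCat.ofHom (algebraMap k A) ≫ β = CommRingCat.ofHom (algebraMap k C) := by
    apply Spec.map_injective
    rw [Spec.map_comp, hβ]
    show r ≫ (specA k A).hom = (specA k C).hom
    rw [← Over.w j, ← Category.assoc, hr]
    exact Over.w x
  refine ⟨{ β.hom with commutes' := fun c => RingHom.congr_fun (congrArg CommRingCat.Hom.hom hcomm) c }, ?_⟩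
  ext : 1
  show Spec.map (CommRingCat.ofHom β.hom) ≫ j.left = q
  rw [CommRingCat.ofHom_hom, hβ, hr]

theorem range_mapA_comp (ψ : A →ₐ[k] C) (j : specA k A ⟶ X) :
    Set.range (mapA ψ ≫ j).left ⊆ Set.range j.left := by
  rintro _ ⟨p, rfl⟩
  exact ⟨_, rfl⟩

theorem exists_coact (hj : IsChart a j) :
    ∃ Δ : A →ₐ[k] Polynomial A, mapA Δ ≫ j = act a Polynomial.X (mapA (cC A) ≫ j) :=
  haveI := hj.1
  exists_lift_chart j _ (hj.2 _ _ _ (range_mapA_comp _ j))

/-- The coaction on a chart. -/
def coact (hj : IsChart a j) : A →ₐ[k] Polynomial A := (exists_coact hj).choose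

theorem coact_spec (hj : IsChart a j) :
    mapA (coact hj) ≫ j = act a Polynomial.X (mapA (cC A) ≫ j) := (exists_coact hj).choose_spec

theorem act_mapA (hj : IsChart a j) (ψ : A →ₐ[k] C) (c : C) :
    act a c (mapA ψ ≫ j) = mapA ((evalC ψ c).comp (coact hj)) ≫ j := by
  rw [← mapA_comp, Category.assoc, coact_spec, mapA_act, evalC_X, ← Category.assoc, mapA_comp, evalC_cC]

theorem eval₂_CC {A : Type u} [CommRing A] (p : Polynomial A) (n : ℕ) :
    (Polynomial.eval₂ (Polynomial.C.comp Polynomial.C)
      (Polynomial.X * Polynomial.C Polynomial.X : Polynomial (Polynomial A)) p).coeff n =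
      Polynomial.C (p.coeff n) * Polynomial.X ^ n := by
  induction p using Polynomial.induction_on' with
  | add p q hp hq =>
    rw [Polynomial.eval₂_add, Polynomial.coeff_add, Polynomial.coeff_add, hp, hq, map_add, add_mul]
  | monomial m r =>
    rw [Polynomial.eval₂_monomial, RingHom.comp_apply, mul_pow, ← map_pow Polynomial.C Polynomial.X m,
      show ∀ u v w : Polynomial (Polynomial A), u * (v * w) = (u * w) * v from fun u v w => by ring,
      ← map_mul, Polynomial.coeff_C_mul_X_pow, Polynomial.coeff_monomial]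
    by_cases h : n = m
    · subst h
      rw [if_pos rfl, if_pos rfl]
    · rw [if_neg h, if_neg (Ne.symm h), map_zero, zero_mul]

theorem isCoact_coact (hj : IsChart a j) : IsCoact (coact hj).toRingHom := by
  haveI := hj.1
  constructor
  · intro r
    have h := act_mapA hj (AlgHom.id k A) (1 : A)
    rw [act_one] at h
    exact (AlgHom.congr_fun (mapA_injective h) r).symm
  · intro r n
    let i2 : A →ₐ[k] Polynomial (Polynomial A) := (cC (Polynomial A)).comp (cC A)
    have h1 := act_act a (A := Polynomial (Polynomial A)) Polynomial.X (Polynomial.C Polynomial.X) (mapA i2 ≫ j)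
    rw [act_mapA hj i2, act_mapA hj, act_mapA hj] at h1
    have h2 := AlgHom.congr_fun (mapA_injective h1) r
    have h3 : (evalC i2 (Polynomial.C Polynomial.X)).comp (coact hj) =
        (cC (Polynomial A)).comp (coact hj) := AlgHom.ext fun s => by
      show Polynomial.eval₂ (Polynomial.C.comp Polynomial.C) (Polynomial.C Polynomial.X) (coact hj s) =
        Polynomial.C (coact hj s)
      rw [← Polynomial.hom_eval₂, Polynomial.eval₂_C_X]
    rw [h3] at h2
    have h4 := congrArg (fun p => p.coeff n) h2
    have h5 : (evalC ((cC (Polynomial A)).comp (coact hj)) Polynomial.X).comp (coact hj) r =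
        (coact hj r).map (coact hj).toRingHom := by
      show Polynomial.eval₂ (Polynomial.C.comp (coact hj).toRingHom) Polynomial.X (coact hj r) = _
      rfl
    simp only [h5, Polynomial.coeff_map] at h4
    exact h4.trans (eval₂_CC _ n)

theorem coact_natural {f : X ⟶ Y}
    (he : Magnet.MonAct.IsEquivariant a b f) (hj : IsChart a j) {jB : specA k B ⟶ Y} (hB : IsChart b jB)
    {φ : B →ₐ[k] A} (hφ : mapA φ ≫ jB = j ≫ f) (r : B) :
    coact hj (φ r) = (coact hB r).map φ.toRingHom := by
  haveI := hB.1
  have h : mapA ((coact hj).comp φ) ≫ jB = mapA ((evalC ((cC A).comp φ) Polynomial.X).comp (coact hB)) ≫ jB := by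
    rw [← mapA_comp, Category.assoc, hφ, ← Category.assoc, coact_spec, act_comp a b he, Category.assoc, ← hφ,
      ← Category.assoc, mapA_comp, act_mapA hB]
  exact AlgHom.congr_fun (mapA_injective h) r

/-- The retraction on coordinates. -/
def e0A (hj : IsChart a j) : A →ₐ[k] A := (evalC (AlgHom.id k A) 0).comp (coact hj)

theorem e0A_apply (hj : IsChart a j) (r : A) : e0A hj r = e0 (coact hj).toRingHom r := by
  show Polynomial.eval₂ (RingHom.id A) 0 (coact hj r) = _
  rw [Polynomial.eval₂_at_zero]
  rfl

theorem comp_e_chart (hj : IsChart a j) (ψ : A →ₐ[k] C) :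
    (mapA ψ ≫ j) ≫ e a = mapA (ψ.comp (e0A hj)) ≫ j := by
  rw [comp_e_specA, act_mapA hj]
  congr 2
  refine AlgHom.ext fun r => ?_
  show Polynomial.eval₂ ψ.toRingHom 0 (coact hj r) = ψ (e0A hj r)
  rw [e0A_apply, Polynomial.eval₂_at_zero]
  rfl

theorem fixed_iff (hj : IsChart a j) (ψ : A →ₐ[k] C) :
    (mapA ψ ≫ j) ≫ e a = mapA ψ ≫ j ↔ RingHom.ker (e0 (coact hj).toRingHom) ≤ RingHom.ker ψ.toRingHom := by
  haveI := hj.1
  rw [comp_e_chart hj]
  constructor
  · intro h r hr
    rw [RingHom.mem_ker]
    show ψ r = 0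
    rw [← AlgHom.congr_fun (mapA_injective h) r, AlgHom.comp_apply, e0A_apply, RingHom.mem_ker.1 hr, map_zero]
  · intro h
    congr 2
    refine AlgHom.ext fun r => ?_
    have := h (sub_e0_mem (isCoact_coact hj) r)
    rw [RingHom.mem_ker, map_sub, sub_eq_zero] at this
    rw [AlgHom.comp_apply, e0A_apply]
    exact this.symm

/-- Localising a chart at an invariant. -/
theorem isChart_loc (hj : IsChart a j) (h : A) (hh : coact hj h = Polynomial.C h) :
    IsChart a (mapA (IsScalarTower.toAlgHom k A (Localization.Away h)) ≫ j) ∧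
      Set.range (mapA (IsScalarTower.toAlgHom k A (Localization.Away h)) ≫ j).left =
        j.left '' {p : PrimeSpectrum A | h ∉ p.asIdeal} := by
  haveI := hj.1
  let loc := IsScalarTower.toAlgHom k A (Localization.Away h)
  haveI : IsOpenImmersion (mapA loc).left := IsOpenImmersion.of_isLocalization h
  refine ⟨⟨?_, ?_⟩, ?_⟩
  · show IsOpenImmersion ((mapA loc).left ≫ j.left)
    infer_instance
  · intro C _ _ c x hx
    haveI : IsOpenImmersion (mapA loc ≫ j).left := by
      show IsOpenImmersion ((mapA loc).left ≫ j.left)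
      infer_instance
    obtain ⟨ψ, rfl⟩ := exists_lift_chart (mapA loc ≫ j) x hx
    rw [← Category.assoc, mapA_comp, act_mapA hj]
    let θ := (evalC (ψ.comp loc) c).comp (coact hj)
    have hu : IsUnit (θ h) := by
      show IsUnit (Polynomial.eval₂ (ψ.comp loc).toRingHom c (coact hj h))
      rw [hh, Polynomial.eval₂_C]
      exact (IsLocalization.Away.algebraMap_isUnit (S := Localization.Away h) h).map ψ
    let θ' : Localization.Away h →ₐ[k] C :=
      { IsLocalization.Away.lift (S := Localization.Away h) (P := C) h (g := θ.toRingHom) hu with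
        commutes' := fun r => by
          show IsLocalization.Away.lift (S := Localization.Away h) (P := C) h (g := θ.toRingHom) hu (algebraMap k _ r) = _
          rw [IsScalarTower.algebraMap_apply k A (Localization.Away h)]
          exact (IsLocalization.Away.lift_eq _ _ _).trans (θ.commutes r) }
    have e : θ = θ'.comp loc := AlgHom.ext fun p =>
      (IsLocalization.Away.lift_eq (S := Localization.Away h) h (g := θ.toRingHom) hu p).symm
    show Set.range (mapA θ ≫ j).left ⊆ _
    rw [e, ← mapA_comp, Category.assoc]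
    exact range_mapA_comp _ _
  · show Set.range (fun p => j.left ((mapA loc).left p)) = _
    rw [Set.range_comp' j.left]
    congr 1
    exact (PrimeSpectrum.localization_away_comap_range (Localization.Away h) h).trans rfl

end Groth.Agent.BBIso
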