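import Groth.Agent.BBIso.Main
import Mathlib.CategoryTheory.Limits.Types.Pullbacks

/-!
# The criterion in terms of the fixed-point subfunctors
-/

set_option autoImplicit false
set_option backward.isDefEq.respectTransparency false

universe u

open CategoryTheory CategoryTheory.Limits MonoidalCategory CartesianMonoidalCategory MonObj AlgebraicGeometry Opposite
open Groth.Agent.LineGrp (specA mapA)

noncomputable section

namespace Groth.Agent.BBIso

theorem exists_isChart {k : Type u} [CommRing k] {X : Over (Spec (CommRingCat.of k))} (a : Magnet.MonAct (M k) X)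
    (hX : ∀ x : X.left, ∃ U : X.left.Opens, x ∈ U ∧ IsAffineOpen U ∧
      (CartesianMonoidalCategory.snd (M k) X).left ⁻¹ᵁ U ≤ a.act.left ⁻¹ᵁ U) (x : X.left) :
    ∃ (A : Type u) (_ : CommRing A) (_ : Algebra k A) (j : specA k A ⟶ X),
      IsChart a j ∧ x ∈ Set.range j.left := by
  obtain ⟨U, hxU, hU, hst⟩ := hX x
  obtain ⟨A, _, _, j, hj, hjr⟩ := Groth.Agent.MagnetFormal.specA_lift hU
  exact ⟨A, inferInstance, inferInstance, j, ⟨hj, hjr ▸ stable_of_le a U hst⟩, hjr.ge hxU⟩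

variable {k : Type u} [CommRing k] {X Y : Over (Spec (CommRingCat.of k))} {a : Magnet.MonAct (M k) X}
  {b : Magnet.MonAct (M k) Y} {f : X ⟶ Y}

theorem main (hX : ∀ x : X.left, ∃ U : X.left.Opens, x ∈ U ∧ IsAffineOpen U ∧
      (CartesianMonoidalCategory.snd (M k) X).left ⁻¹ᵁ U ≤ a.act.left ⁻¹ᵁ U)
    (hY : ∀ y : Y.left, ∃ U : Y.left.Opens, y ∈ U ∧ IsAffineOpen U ∧
      (CartesianMonoidalCategory.snd (M k) Y).left ⁻¹ᵁ U ≤ b.act.left ⁻¹ᵁ U)
    (hf : Magnet.MonAct.IsEquivariant a b f) (h1 : IsIso (Magnet.MonAct.fixedPsh.map f hf))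
    (h2 : IsPullback (Magnet.MonAct.fixedPsh.map f hf) (Magnet.MonAct.fixedPshι a)
      (Magnet.MonAct.fixedPshι b) (yoneda.map f))
    (V : X.left.Opens) [Etale (V.ι ≫ f.left)]
    (h3 : ∀ (T : Over (Spec (CommRingCat.of k))) (x : (Magnet.MonAct.fixedPsh a).obj (op T)), x.1.left ⁻¹ᵁ V = ⊤) :
    IsIso f := by
  have hbij : ∀ T : Over (Spec (CommRingCat.of k)),
      Function.Bijective ((Magnet.MonAct.fixedPsh.map f hf).app (op T)) := fun T => by
    rw [← isIso_iff_bijective]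
    infer_instance
  refine isIso_of_hyp (V := V) ⟨hf, ?_, ?_, ?_, ?_, inferInstance⟩ (exists_isChart a hX) (exists_isChart b hY)
  · intro T y hy
    obtain ⟨x, hx⟩ := (hbij T).2 (fixPt b y hy)
    exact ⟨x.1, e_of_fixed a x, congrArg Subtype.val hx⟩
  · intro T x x' hx hx' h
    exact congrArg Subtype.val ((hbij T).1 (a₁ := fixPt a x hx) (a₂ := fixPt a x' hx') (Subtype.ext h))
  · intro T x hx
    obtain ⟨z, -, hz⟩ := Types.exists_of_isPullback (h2.map ((evaluation _ _).obj (op T))) (fixPt b (x ≫ f) hx) x rfl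
    rw [← show z.1 = x from hz]
    exact e_of_fixed a z
  · intro T x hx
    rintro _ ⟨p, rfl⟩
    exact (h3 T (fixPt a x hx)).ge (show p ∈ (⊤ : T.left.Opens) from trivial)

end Groth.Agent.BBIso
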