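import Groth.Agent.BBIso.Chart
import Mathlib.AlgebraicGeometry.Morphisms.Etale

/-!
# An equivariant map, étale along fixed points and iso on fixed points, is an isomorphism
-/

set_option autoImplicit false
set_option backward.isDefEq.respectTransparency false
set_option linter.style.haveILetI false

universe u

attribute [local irreducible] Groth.Agent.BBIso.coact Groth.Agent.BBIso.e0

open CategoryTheory CategoryTheory.Limits MonoidalCategory CartesianMonoidalCategory MonObj AlgebraicGeometry Opposite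
open Groth.Agent.LineGrp (specA mapA)
open Groth.Agent.MagnetFormal (mapA_comp)

noncomputable section

namespace Groth.Agent.BBIso

variable {k : Type u} [CommRing k] {A B : Type u} [CommRing A] [Algebra k A] [CommRing B] [Algebra k B]
variable {X Y : Over (Spec (CommRingCat.of k))} (a : Magnet.MonAct (M k) X) (b : Magnet.MonAct (M k) Y) (f : X ⟶ Y)

/-- The hypotheses on fixed points, on points. -/
structure Hyp (V : X.left.Opens) : Prop where
  equiv : Magnet.MonAct.IsEquivariant a b f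
  lift : ∀ (T : Over (Spec (CommRingCat.of k))) (y : T ⟶ Y), y ≫ e b = y → ∃ x : T ⟶ X, x ≫ e a = x ∧ x ≫ f = y
  inj : ∀ (T : Over (Spec (CommRingCat.of k))) (x x' : T ⟶ X),
    x ≫ e a = x → x' ≫ e a = x' → x ≫ f = x' ≫ f → x = x'
  refl : ∀ (T : Over (Spec (CommRingCat.of k))) (x : T ⟶ X), (x ≫ f) ≫ e b = x ≫ f → x ≫ e a = x
  mem : ∀ (T : Over (Spec (CommRingCat.of k))) (x : T ⟶ X), x ≫ e a = x → Set.range x.left ⊆ V
  flat : Flat (V.ι ≫ f.left)

variable {a b f} {V : X.left.Opens} (H : Hyp a b f V)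


/-- The quotient defining the fixed points of a chart. -/
abbrev mkI {jB : specA k B ⟶ Y} (hB : IsChart b jB) : B →ₐ[k] B ⧸ RingHom.ker (e0 (coact hB).toRingHom) :=
  Ideal.Quotient.mkₐ k _

theorem mkI_fixed {jB : specA k B ⟶ Y} (hB : IsChart b jB) : (mapA (mkI hB) ≫ jB) ≫ e b = mapA (mkI hB) ≫ jB :=
  (fixed_iff hB _).2 fun x hx => RingHom.mem_ker.2 (Ideal.Quotient.eq_zero_iff_mem.2 hx)

include H

/-- A fixed point with image in a chart factors through the section. -/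
theorem fac {jB : specA k B ⟶ Y} (hB : IsChart b jB)
    (σ : specA k (B ⧸ RingHom.ker (e0 (coact hB).toRingHom)) ⟶ X) (hσ : σ ≫ e a = σ)
    (hσf : σ ≫ f = mapA (mkI hB) ≫ jB) {C : Type u} [CommRing C] [Algebra k C] (x : specA k C ⟶ X)
    (hx : x ≫ e a = x) (hr : Set.range (x ≫ f).left ⊆ Set.range jB.left) :
    ∃ ψ : (B ⧸ RingHom.ker (e0 (coact hB).toRingHom)) →ₐ[k] C,
      mapA ψ ≫ σ = x ∧ mapA (ψ.comp (mkI hB)) ≫ jB = x ≫ f := by
  haveI := hB.1
  obtain ⟨χ, hχ⟩ := exists_lift_chart jB (x ≫ f) hr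
  have hχf : (x ≫ f) ≫ e b = x ≫ f := by
    rw [Category.assoc, ← e_comp a b H.equiv, ← Category.assoc, hx]
  rw [← hχ] at hχf
  let ψ := Ideal.Quotient.liftₐ _ χ ((fixed_iff hB χ).1 hχf)
  have hψ : ψ.comp (mkI hB) = χ := AlgHom.ext fun r => rfl
  refine ⟨ψ, H.inj _ _ _ (by rw [Category.assoc, hσ]) hx ?_, by rw [hψ, hχ]⟩
  rw [Category.assoc, hσf, ← Category.assoc, mapA_comp, hψ, hχ]

theorem cart_local {jA : specA k A ⟶ X} {jB : specA k B ⟶ Y} (hA : IsChart a jA) (hB : IsChart b jB)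
    (φ : B →ₐ[k] A) (hφ : mapA φ ≫ jB = jA ≫ f) :
    RingHom.ker (e0 (coact hA).toRingHom) ≤ (RingHom.ker (e0 (coact hB).toRingHom)).map φ.toRingHom := by
  haveI := hA.1
  haveI := hB.1
  let J := (RingHom.ker (e0 (coact hB).toRingHom)).map φ.toRingHom
  let m : A →ₐ[k] A ⧸ J := Ideal.Quotient.mkₐ k J
  have h1 : ((mapA m ≫ jA) ≫ f) ≫ e b = (mapA m ≫ jA) ≫ f := by
    rw [Category.assoc (mapA m) jA f, ← hφ, ← Category.assoc, mapA_comp]
    exact (fixed_iff hB _).2 fun r hr =>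
      RingHom.mem_ker.2 (Ideal.Quotient.eq_zero_iff_mem.2 (Ideal.mem_map_of_mem φ.toRingHom hr))
  exact fun r hr => Ideal.Quotient.eq_zero_iff_mem.1 ((fixed_iff hA m).1 (H.refl _ _ h1) hr)

theorem surj_local {jA : specA k A ⟶ X} {jB : specA k B ⟶ Y} (hA : IsChart a jA) (hB : IsChart b jB)
    (φ : B →ₐ[k] A) (hφ : mapA φ ≫ jB = jA ≫ f)
    (σ : specA k (B ⧸ RingHom.ker (e0 (coact hB).toRingHom)) ⟶ X) (hσ : σ ≫ e a = σ)
    (hσf : σ ≫ f = mapA (mkI hB) ≫ jB) (ψ : A →ₐ[k] B ⧸ RingHom.ker (e0 (coact hB).toRingHom))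
    (hψ : mapA ψ ≫ jA = σ) (hψφ : ψ.comp φ = mkI hB) :
    ∀ r, ∃ t, e0 (coact hA).toRingHom (φ.toRingHom t - r) = 0 := by
  haveI := hA.1
  haveI := hB.1
  let m : A →ₐ[k] A ⧸ RingHom.ker (e0 (coact hA).toRingHom) := Ideal.Quotient.mkₐ k _
  have hm : (mapA m ≫ jA) ≫ e a = mapA m ≫ jA :=
    (fixed_iff hA _).2 fun x hx => RingHom.mem_ker.2 (Ideal.Quotient.eq_zero_iff_mem.2 hx)
  obtain ⟨χ, hχ, hχ'⟩ := fac H hB σ hσ hσf _ hm (by
    rw [Category.assoc, ← hφ, ← Category.assoc, mapA_comp]; exact range_mapA_comp _ _)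
  rw [← hψ, ← Category.assoc, mapA_comp] at hχ
  have e1 : χ.comp ψ = m := mapA_injective hχ
  intro r
  obtain ⟨s, hs⟩ := Ideal.Quotient.mk_surjective (ψ r)
  refine ⟨s, RingHom.mem_ker.1 (Ideal.Quotient.eq.1 ?_)⟩
  show m (φ s) = m r
  rw [← e1]
  show χ ((ψ.comp φ) s) = χ (ψ r)
  rw [hψφ, ← hs]
  rfl

theorem kill_local {jA : specA k A ⟶ X} {jB : specA k B ⟶ Y} (hA : IsChart a jA) (hB : IsChart b jB)
    (φ : B →ₐ[k] A) (hφ : mapA φ ≫ jB = jA ≫ f)
    (σ : specA k (B ⧸ RingHom.ker (e0 (coact hB).toRingHom)) ⟶ X) (hσ : σ ≫ e a = σ)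
    (hσf : σ ≫ f = mapA (mkI hB) ≫ jB) (ψ : A →ₐ[k] B ⧸ RingHom.ker (e0 (coact hB).toRingHom))
    (hψ : mapA ψ ≫ jA = σ) (hψφ : ψ.comp φ = mkI hB) :
    ∀ P : Ideal B, P.IsPrime → RingHom.ker (e0 (coact hB).toRingHom) ≤ P → ∀ r, φ.toRingHom r = 0 →
      ∃ t ∉ P, t * r = 0 := by
  haveI := hA.1
  haveI := hB.1
  intro P hP hle r hr0
  let Pb : Ideal (B ⧸ RingHom.ker (e0 (coact hB).toRingHom)) := P.map (Ideal.Quotient.mk _)
  haveI : Pb.IsPrime := Ideal.map_isPrime_of_surjective Ideal.Quotient.mk_surjective (by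
    rw [Ideal.mk_ker]; exact hle)
  let Q : ↥(Spec (CommRingCat.of A)) := (mapA ψ).left ⟨Pb, inferInstance⟩
  have hQP : Q.asIdeal.comap φ.toRingHom = P := by
    show Ideal.comap φ.toRingHom (Ideal.comap ψ.toRingHom Pb) = P
    rw [Ideal.comap_comap, show ψ.toRingHom.comp φ.toRingHom = (mkI hB).toRingHom from
      congrArg AlgHom.toRingHom hψφ]
    exact (Ideal.comap_map_of_surjective _ Ideal.Quotient.mk_surjective P).trans
      (sup_eq_left.2 (by rw [← RingHom.ker_eq_comap_bot, Ideal.mk_ker]; exact hle))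
  have hQV : Q ∈ jA.left ⁻¹ᵁ V := by
    refine H.mem _ σ hσ ⟨⟨Pb, inferInstance⟩, ?_⟩
    rw [← hψ]
    rfl
  obtain ⟨_, ⟨t, rfl⟩, htQ, htV⟩ :=
    PrimeSpectrum.isTopologicalBasis_basic_opens.exists_subset_of_mem_open hQV (jA.left ⁻¹ᵁ V).2
  let loc : A →ₐ[k] Localization.Away t := IsScalarTower.toAlgHom k A (Localization.Away t)
  haveI : IsOpenImmersion (mapA loc).left := IsOpenImmersion.of_isLocalization t
  let r₁ : (specA k (Localization.Away t)).left ⟶ (V : Scheme.{u}) :=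
    IsOpenImmersion.lift V.ι ((mapA loc).left ≫ jA.left) (by
      rw [Scheme.Opens.range_ι]
      rintro _ ⟨p, rfl⟩
      exact htV ((PrimeSpectrum.localization_away_comap_range (Localization.Away t) t).le ⟨p, rfl⟩))
  have hr₁ : r₁ ≫ V.ι = (mapA loc).left ≫ jA.left := IsOpenImmersion.lift_fac _ _ _
  haveI : IsOpenImmersion r₁ := by
    haveI : IsOpenImmersion (r₁ ≫ V.ι) := by rw [hr₁]; infer_instance
    exact IsOpenImmersion.of_comp r₁ V.ι
  haveI := H.flat
  let m := loc.comp φ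
  have hm : Flat ((mapA m).left ≫ jB.left) := by
    rw [show (mapA m).left ≫ jB.left = r₁ ≫ V.ι ≫ f.left from ?_]
    · infer_instance
    rw [reassoc_of% hr₁, ← Over.comp_left, ← Over.comp_left, ← Over.comp_left, ← hφ, ← Category.assoc, mapA_comp]
  have hflat : m.toRingHom.Flat := by
    have hpb : IsPullback (mapA m).left (𝟙 _) jB.left ((mapA m).left ≫ jB.left) :=
      IsPullback.of_isLimit' ⟨by rw [Category.id_comp]⟩ (PullbackCone.IsLimit.mk _
        (fun s => s.snd)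
        (fun s => (cancel_mono jB.left).1 (by rw [Category.assoc]; exact s.condition.symm))
        (fun s => Category.comp_id _) (fun s g _ h2 => (Category.comp_id g).symm.trans h2))
    have hF : Flat (mapA m).left := MorphismProperty.of_isPullback (P := @Flat) hpb.flip hm
    exact (HasRingHomProperty.Spec_iff (P := @Flat) (φ := CommRingCat.ofHom m.toRingHom)).1 hF
  let Qt : Ideal (Localization.Away t) := Q.asIdeal.map (algebraMap A _)
  have htQ' : Disjoint (Submonoid.powers t : Set A) Q.asIdeal := by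
    rw [Ideal.disjoint_powers_iff_notMem_of_isPrime]
    exact htQ
  haveI : Qt.IsPrime := IsLocalization.isPrime_of_isPrime_disjoint _ _ _ Q.2 htQ'
  obtain ⟨s, hs, hsr⟩ := exists_notMem_mul_eq_zero m.toRingHom hflat Qt r (by
    show loc (φ r) = 0
    rw [show φ r = 0 from hr0, map_zero])
  refine ⟨s, fun hsP => hs ?_, hsr⟩
  rw [← hQP] at hsP
  exact Ideal.mem_map_of_mem _ hsP

theorem bijective_local {jA : specA k A ⟶ X} {jB : specA k B ⟶ Y} (hA : IsChart a jA) (hB : IsChart b jB)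
    (φ : B →ₐ[k] A) (hφ : mapA φ ≫ jB = jA ≫ f)
    (hr : f.left ⁻¹' Set.range jB.left ⊆ Set.range jA.left) : Function.Bijective φ := by
  haveI := hA.1
  haveI := hB.1
  have hσmem : ∀ {C : Type u} [CommRing C] [Algebra k C] (x : specA k C ⟶ X),
      Set.range (x ≫ f).left ⊆ Set.range jB.left → Set.range x.left ⊆ Set.range jA.left := by
    intro C _ _ x hx
    rintro _ ⟨p, rfl⟩
    exact hr (hx ⟨p, rfl⟩)
  obtain ⟨σ, hσ, hσf⟩ := H.lift _ _ (mkI_fixed hB)
  obtain ⟨ψ, hψ⟩ := exists_lift_chart jA σ (hσmem σ (hσf ▸ range_mapA_comp _ _))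
  have hψφ : ψ.comp φ = mkI hB := mapA_injective (j := jB) (by
    rw [← mapA_comp, Category.assoc, hφ, ← Category.assoc, hψ, hσf])
  exact bijective_of (A := A) φ.toRingHom (isCoact_coact hA) (isCoact_coact hB)
    (coact_natural b H.equiv hA hB hφ) (cart_local H hA hB φ hφ)
    (surj_local H hA hB φ hφ σ hσ hσf ψ hψ hψφ) (kill_local H hA hB φ hφ σ hσ hσf ψ hψ hψφ)

theorem exists_chart_iso (hX : ∀ x : X.left, ∃ (A : Type u) (_ : CommRing A) (_ : Algebra k A)
      (j : specA k A ⟶ X), IsChart a j ∧ x ∈ Set.range j.left)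
    {jB : specA k B ⟶ Y} (hB : IsChart b jB) (y : Y.left) (hy : y ∈ Set.range jB.left) :
    ∃ U : Y.left.Opens, y ∈ U ∧ IsIso (f.left ∣_ U) := by
  haveI := hB.1
  have stab : ∀ {Z : Over (Spec (CommRingCat.of k))} {c : Magnet.MonAct (M k) Z} {O : Set Z.left}, Stable c O →
      ∀ z ∈ O, (e c).left z ∈ O := by
    intro Z c O hO z hz
    obtain ⟨K, _, _, ξ, hξ⟩ := exists_pt z
    obtain ⟨q⟩ := (inferInstance : Nonempty ↥(Spec (CommRingCat.of K)))
    have h := hO K 0 ξ (by rw [hξ]; exact Set.singleton_subset_iff.2 hz)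
    rw [← comp_e_specA] at h
    have hq : ξ.left q = z := hξ.subset ⟨q, rfl⟩
    rw [← hq]
    exact h ⟨q, rfl⟩
  obtain ⟨K, _, _, ξ, hξ⟩ := exists_pt y
  obtain ⟨qK⟩ := (inferInstance : Nonempty ↥(Spec (CommRingCat.of K)))
  have hη : (ξ ≫ e b) ≫ e b = ξ ≫ e b := by rw [Category.assoc, e_e]
  obtain ⟨x₁, hx₁, hx₁f⟩ := H.lift _ _ hη
  have hηr : Set.range (ξ ≫ e b).left ⊆ Set.range jB.left := by
    rintro _ ⟨p, rfl⟩
    rw [Over.comp_left, Scheme.Hom.comp_apply, show ξ.left p = y from hξ.subset ⟨p, rfl⟩]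
    exact stab hB.2 y hy
  obtain ⟨A, _, _, jA, hA, hxA⟩ := hX (x₁.left qK)
  haveI := hA.1
  let O : X.left.Opens := jA.left.opensRange ⊓ f.left ⁻¹ᵁ jB.left.opensRange
  have hO : Stable a (O : Set X.left) := stable_inter a hA.2 (stable_preimage a b H.equiv hB.2)
  have hx0O : x₁.left qK ∈ O := ⟨hxA, by
    show f.left (x₁.left qK) ∈ jB.left.opensRange
    rw [← Scheme.Hom.comp_apply, ← Over.comp_left, hx₁f]
    exact hηr ⟨qK, rfl⟩⟩
  obtain ⟨P0, hP0⟩ := hxA
  have hP0O : P0 ∈ jA.left ⁻¹ᵁ O := by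
    show jA.left P0 ∈ O
    rw [hP0]; exact hx0O
  obtain ⟨_, ⟨h1, rfl⟩, hh1, hh1O⟩ :=
    PrimeSpectrum.isTopologicalBasis_basic_opens.exists_subset_of_mem_open hP0O (jA.left ⁻¹ᵁ O).2
  have heA : ∀ P, (e a).left (jA.left P) = jA.left ((mapA (e0A hA)).left P) := fun P => by
    have h := comp_e_chart hA (AlgHom.id k A)
    rw [AlgHom.id_comp, show mapA (AlgHom.id k A) = 𝟙 _ from by ext : 1; exact Spec.map_id _,
      Category.id_comp] at h
    exact congrArg (fun g => g P) (congrArg CommaMorphism.left h)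
  let h := e0A hA h1
  have hh : coact hA h = Polynomial.C h := by
    show coact hA (e0A hA h1) = Polynomial.C (e0A hA h1)
    rw [e0A_apply]
    exact Δ_e0 (isCoact_coact hA) h1
  obtain ⟨hU₁, hU₁r⟩ := isChart_loc hA h hh
  haveI := hU₁.1
  have hU₁O : Set.range (mapA (IsScalarTower.toAlgHom k A (Localization.Away h)) ≫ jA).left ⊆ (O : Set X.left) := by
    rw [hU₁r]
    rintro _ ⟨P, hP, rfl⟩
    refine mem_of_e_mem a O hO ?_
    rw [heA]
    exact hh1O hP
  have hx0U₁ : x₁.left qK ∈ Set.range (mapA (IsScalarTower.toAlgHom k A (Localization.Away h)) ≫ jA).left := by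
    have hfix : (e a).left (x₁.left qK) = x₁.left qK := by
      rw [← Scheme.Hom.comp_apply, ← Over.comp_left, hx₁]
    rw [← hP0, heA] at hfix
    have hc : (mapA (e0A hA)).left P0 = P0 := jA.left.isOpenEmbedding.injective hfix
    rw [hU₁r, ← hP0]
    refine ⟨P0, ?_, rfl⟩
    rw [← hc] at hh1
    exact hh1
  generalize hj₁ : mapA (IsScalarTower.toAlgHom k A (Localization.Away h)) ≫ jA = j₁ at hU₁ hU₁O hx0U₁
  clear hU₁r hj₁
  haveI := hU₁.1
  obtain ⟨φ₁, hφ₁⟩ := exists_lift_chart jB (j₁ ≫ f) (by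
    rintro _ ⟨p, rfl⟩
    exact (hU₁O ⟨p, rfl⟩).2)
  obtain ⟨σ, hσ, hσf⟩ := H.lift _ _ (mkI_fixed hB)
  obtain ⟨ψ₁, hψ₁, hψ₁'⟩ := fac H hB σ hσ hσf x₁ hx₁ (hx₁f ▸ hηr)
  let Q0 := (mapA ψ₁).left qK
  have hQ0 : Q0 ∈ σ.left ⁻¹ᵁ j₁.left.opensRange := by
    show σ.left ((mapA ψ₁).left qK) ∈ j₁.left.opensRange
    rw [← Scheme.Hom.comp_apply, ← Over.comp_left, hψ₁]
    exact hx0U₁
  obtain ⟨_, ⟨gb, rfl⟩, hgQ, hgσ⟩ :=
    PrimeSpectrum.isTopologicalBasis_basic_opens.exists_subset_of_mem_open hQ0 (σ.left ⁻¹ᵁ j₁.left.opensRange).2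
  obtain ⟨g1, rfl⟩ := Ideal.Quotient.mk_surjective gb
  let g := e0A hB g1
  have hmg : mkI hB g = mkI hB g1 := by
    show mkI hB (e0A hB g1) = mkI hB g1
    rw [e0A_apply]
    exact (Ideal.Quotient.eq.2 (sub_e0_mem (isCoact_coact hB) g1)).symm
  have hg : coact hB g = Polynomial.C g := by
    show coact hB (e0A hB g1) = Polynomial.C (e0A hB g1)
    rw [e0A_apply]
    exact Δ_e0 (isCoact_coact hB) g1
  obtain ⟨hW', hW'r⟩ := isChart_loc hB g hg
  obtain ⟨hU', hU'r⟩ := isChart_loc hU₁ (φ₁ g) (by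
    rw [coact_natural b H.equiv hU₁ hB hφ₁, hg, Polynomial.map_C]
    rfl)
  haveI := hW'.1
  haveI := hU'.1
  have hsub : ∀ z ∈ Set.range j₁.left, f.left z ∈ Set.range (mapA (IsScalarTower.toAlgHom k B (Localization.Away g)) ≫ jB).left →
      z ∈ Set.range (mapA (IsScalarTower.toAlgHom k _ (Localization.Away (φ₁ g))) ≫ j₁).left := by
    rintro _ ⟨p, rfl⟩ hp
    rw [hW'r] at hp
    obtain ⟨q, hq, hqp⟩ := hp
    rw [hU'r]
    refine ⟨p, ?_, rfl⟩
    have : (mapA φ₁).left p = q := jB.left.isOpenEmbedding.injective (by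
      rw [hqp, ← Scheme.Hom.comp_apply, ← Over.comp_left, hφ₁]
      rfl)
    rw [← this] at hq
    exact hq
  have hrange : f.left ⁻¹' Set.range (mapA (IsScalarTower.toAlgHom k B (Localization.Away g)) ≫ jB).left =
      Set.range (mapA (IsScalarTower.toAlgHom k _ (Localization.Away (φ₁ g))) ≫ j₁).left := by
    refine Set.Subset.antisymm (fun z hz => ?_) ?_
    · refine mem_of_e_mem a ((mapA (IsScalarTower.toAlgHom k _ (Localization.Away (φ₁ g))) ≫ j₁).left.opensRange)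
        hU'.2 (hsub _ ?_ ?_)
      · obtain ⟨L, _, _, ζ, hζ⟩ := exists_pt z
        obtain ⟨qL⟩ := (inferInstance : Nonempty ↥(Spec (CommRingCat.of L)))
        have hζq : ζ.left qL = z := hζ.subset ⟨qL, rfl⟩
        have hζe : (ζ ≫ e a) ≫ e a = ζ ≫ e a := by rw [Category.assoc, e_e]
        have hζW : Set.range ((ζ ≫ e a) ≫ f).left ⊆
            Set.range (mapA (IsScalarTower.toAlgHom k B (Localization.Away g)) ≫ jB).left := by
          rintro _ ⟨p, rfl⟩
          rw [Category.assoc, e_comp a b H.equiv]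
          show (e b).left (f.left (ζ.left p)) ∈ _
          rw [show ζ.left p = z from hζ.subset ⟨p, rfl⟩]
          exact stab hW'.2 _ hz
        obtain ⟨ψ, hψ, hψ'⟩ := fac H hB σ hσ hσf (ζ ≫ e a) hζe (hζW.trans (range_mapA_comp _ _))
        have hmem := hgσ (show (mapA ψ).left qL ∈ PrimeSpectrum.basicOpen (Ideal.Quotient.mk _ g1) from by
          obtain ⟨q, hq, hqp⟩ := hW'r.le (hζW ⟨qL, rfl⟩)
          rw [← hψ'] at hqp
          have : (mapA (ψ.comp (mkI hB))).left qL = q := jB.left.isOpenEmbedding.injective (hqp.trans rfl).symm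
          rw [← this] at hq
          show mkI hB g1 ∉ _
          rw [← hmg]
          exact hq)
        rw [show (e a).left z = (ζ ≫ e a).left qL from by rw [← hζq]; rfl, ← hψ]
        exact hmem
      · rw [← Scheme.Hom.comp_apply, ← Over.comp_left, e_comp a b H.equiv]
        exact stab hW'.2 _ hz
    · rw [hU'r]
      rintro _ ⟨p, hp, rfl⟩
      rw [Set.mem_preimage, hW'r]
      refine ⟨(mapA φ₁).left p, hp, ?_⟩
      rw [← Scheme.Hom.comp_apply, ← Over.comp_left, hφ₁]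
      rfl
  generalize hjA' : mapA (IsScalarTower.toAlgHom k _ (Localization.Away (φ₁ g))) ≫ j₁ = jA' at hU' hrange
  generalize hjB' : mapA (IsScalarTower.toAlgHom k B (Localization.Away g)) ≫ jB = jB' at hW' hrange hW'r
  haveI := hW'.1
  haveI := hU'.1
  obtain ⟨φ', hφ'⟩ := exists_lift_chart jB' (jA' ≫ f) (by
    rintro _ ⟨p, rfl⟩
    exact hrange.ge ⟨p, rfl⟩)
  have hbij := bijective_local H hU' hW' φ' hφ' hrange.le
  refine ⟨jB'.left.opensRange, ?_, ?_⟩
  · refine mem_of_e_mem b jB'.left.opensRange hW'.2 ?_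
    show _ ∈ Set.range jB'.left
    rw [hW'r]
    refine ⟨(mapA (ψ₁.comp (mkI hB))).left qK, ?_, ?_⟩
    · show g ∉ ((mapA (ψ₁.comp (mkI hB))).left qK).asIdeal
      intro hgg
      apply hgQ
      show mkI hB g1 ∈ _
      rw [← hmg]
      exact hgg
    · rw [← Scheme.Hom.comp_apply, ← Over.comp_left, hψ₁', hx₁f, Over.comp_left, Scheme.Hom.comp_apply,
        show ξ.left qK = y from hξ.subset ⟨qK, rfl⟩]
  · haveI : IsIso (CommRingCat.ofHom φ'.toRingHom) := (RingEquiv.ofBijective φ'.toRingHom hbij).toCommRingCatIso.isIso_hom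
    have hsq : IsPullback (mapA φ').left jA'.left jB'.left f.left :=
      IsOpenImmersion.isPullback _ _ _ _ (congrArg CommaMorphism.left hφ').symm (TopologicalSpace.Opens.ext hrange)
    haveI : IsIso (mapA φ').left := by
      show IsIso (Spec.map (CommRingCat.ofHom φ'.toRingHom))
      infer_instance
    haveI : IsIso (pullback.snd f.left jB'.left) := by
      rw [← IsIso.inv_hom_id_assoc hsq.flip.isoPullback.hom (pullback.snd _ _), hsq.flip.isoPullback_hom_snd]
      infer_instance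
    exact ((MorphismProperty.isomorphisms Scheme.{u}).arrow_mk_iso_iff
      (morphismRestrictOpensRange f.left jB'.left)).2 (MorphismProperty.isomorphisms.infer_property _)

omit H

theorem isIso_of_hyp (H : Hyp a b f V)
    (hX : ∀ x : X.left, ∃ (A : Type u) (_ : CommRing A) (_ : Algebra k A)
      (j : specA k A ⟶ X), IsChart a j ∧ x ∈ Set.range j.left)
    (hY : ∀ y : Y.left, ∃ (B : Type u) (_ : CommRing B) (_ : Algebra k B)
      (j : specA k B ⟶ Y), IsChart b j ∧ y ∈ Set.range j.left) : IsIso f := by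
  haveI : IsIso f.left := by
    choose U hyU hU using fun y => (hY y).elim fun B hB => hB.elim fun _ hB => hB.elim fun _ hB =>
      hB.elim fun j hj => exists_chart_iso H hX hj.1 y hj.2
    exact (IsZariskiLocalAtTarget.iff_of_iSup_eq_top (P := MorphismProperty.isomorphisms Scheme.{u}) U
      (eq_top_iff.2 fun y _ => TopologicalSpace.Opens.mem_iSup.2 ⟨y, hyU y⟩)).2 hU
  haveI : IsIso ((Over.forget _).map f) := ‹IsIso f.left›
  exact isIso_of_reflects_iso f (Over.forget _)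

end Groth.Agent.BBIso
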